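import Mathlib

/-!
Involutory automorphisms: fibres of `g ↦ g α(g)⁻¹`, restrictions and quotients.
-/

set_option autoImplicit false

namespace Cfsg.Agent.H26.InvertedBound

open Subgroup

variable {G : Type*} [Group G]

/-- The fixed points of an automorphism. -/
def fix (α : MulAut G) : Subgroup G where
  carrier := {g | α g = g}
  one_mem' := map_one α
  mul_mem' {a b} ha hb := by simp_all
  inv_mem' {a} ha := by simp_all

theorem mem_fix {α : MulAut G} {g : G} : g ∈ fix α ↔ α g = g := Iff.rfl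

/-- An automorphism restricted to an invariant subgroup. -/
def restrict (α : MulAut G) (h2 : ∀ g, α (α g) = g) (N : Subgroup G) (hN : ∀ x ∈ N, α x ∈ N) :
    MulAut N where
  toFun x := ⟨α x, hN x x.2⟩
  invFun x := ⟨α x, hN x x.2⟩
  left_inv x := Subtype.ext (h2 x)
  right_inv x := Subtype.ext (h2 x)
  map_mul' x y := Subtype.ext (map_mul α (x : G) (y : G))

@[simp] theorem restrict_apply (α : MulAut G) (h2 : ∀ g, α (α g) = g) (N : Subgroup G)
    (hN : ∀ x ∈ N, α x ∈ N) (x : N) : (restrict α h2 N hN x : G) = α x := rfl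

theorem restrict_two (α : MulAut G) (h2 : ∀ g, α (α g) = g) (N : Subgroup G)
    (hN : ∀ x ∈ N, α x ∈ N) (x : N) : restrict α h2 N hN (restrict α h2 N hN x) = x :=
  Subtype.ext (h2 x)

theorem map_eq_self (α : MulAut G) (h2 : ∀ g, α (α g) = g) (N : Subgroup G)
    (hN : ∀ x ∈ N, α x ∈ N) : N.map α.toMonoidHom = N := by
  refine le_antisymm ?_ fun x hx => ⟨α x, hN x hx, h2 x⟩
  rintro _ ⟨x, hx, rfl⟩
  exact hN x hx

theorem inv_of_characteristic (α : MulAut G) {N : Subgroup G} [hN : N.Characteristic] :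
    ∀ x ∈ N, α x ∈ N := by
  intro x hx
  have := (characteristic_iff_comap_eq.mp hN) α
  exact (SetLike.ext_iff.mp this x).mpr hx

/-- An automorphism induced on a quotient by an invariant normal subgroup. -/
noncomputable def quot (α : MulAut G) (h2 : ∀ g, α (α g) = g) (N : Subgroup G) [N.Normal]
    (hN : ∀ x ∈ N, α x ∈ N) : MulAut (G ⧸ N) :=
  QuotientGroup.congr N N α (map_eq_self α h2 N hN)

theorem quot_mk (α : MulAut G) (h2 : ∀ g, α (α g) = g) (N : Subgroup G) [N.Normal]
    (hN : ∀ x ∈ N, α x ∈ N) (g : G) :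
    quot α h2 N hN (g : G ⧸ N) = ((α g : G) : G ⧸ N) := rfl

theorem quot_two (α : MulAut G) (h2 : ∀ g, α (α g) = g) (N : Subgroup G) [N.Normal]
    (hN : ∀ x ∈ N, α x ∈ N) (x : G ⧸ N) : quot α h2 N hN (quot α h2 N hN x) = x := by
  induction x using QuotientGroup.induction_on with
  | H g => rw [quot_mk, quot_mk, h2]

theorem card_restrict_fix_le [Finite G] (α : MulAut G) (h2 : ∀ g, α (α g) = g) (N : Subgroup G)
    (hN : ∀ x ∈ N, α x ∈ N) : Nat.card (fix (restrict α h2 N hN)) ≤ Nat.card (fix α) :=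
  Nat.card_le_card_of_injective
    (fun x => (⟨(x : N), congrArg Subtype.val x.2⟩ : fix α))
    fun _ _ h => Subtype.ext (Subtype.ext (congrArg Subtype.val h :))

/-- A set mapped by `g ↦ g α(g)⁻¹` into `T` has at most `|C(α)| |T|` elements. -/
theorem card_le_fix_mul [Finite G] (α : MulAut G) (S T : Set G)
    (h : ∀ g ∈ S, g * (α g)⁻¹ ∈ T) : Nat.card S ≤ Nat.card (fix α) * Nat.card T := by
  classical
  have : Fintype G := Fintype.ofFinite G
  rw [Nat.card_eq_card_toFinset S, Nat.card_eq_card_toFinset T]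
  refine Finset.card_le_mul_card_image_of_maps_to (f := fun g => g * (α g)⁻¹)
    (fun g hg => Set.mem_toFinset.mpr (h g (Set.mem_toFinset.mp hg))) _ fun t _ => ?_
  rcases (S.toFinset.filter fun g => g * (α g)⁻¹ = t).eq_empty_or_nonempty with he | ⟨g₀, hg₀⟩
  · simp [he]
  rw [Finset.mem_filter] at hg₀
  rw [Nat.card_eq_fintype_card]
  refine Finset.card_le_card_of_injOn (fun g => if hg : g₀⁻¹ * g ∈ fix α then
    (⟨g₀⁻¹ * g, hg⟩ : fix α) else 1) (fun g _ => Finset.mem_univ _) ?_
  have hmem : ∀ g ∈ S.toFinset.filter (fun g => g * (α g)⁻¹ = t), g₀⁻¹ * g ∈ fix α := by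
    intro g hg
    have h1 : g * (α g)⁻¹ = g₀ * (α g₀)⁻¹ := (Finset.mem_filter.mp hg).2.trans hg₀.2.symm
    rw [mem_fix, map_mul, map_inv]
    calc (α g₀)⁻¹ * α g = g₀⁻¹ * (g₀ * (α g₀)⁻¹) * α g := by group
      _ = g₀⁻¹ * (g * (α g)⁻¹) * α g := by rw [h1]
      _ = g₀⁻¹ * g := by group
  intro a ha b hb hab
  simp only [dif_pos (hmem a ha), dif_pos (hmem b hb), Subtype.mk.injEq] at hab
  exact mul_left_cancel hab

theorem inverted_mul_inv (α : MulAut G) (h2 : ∀ g, α (α g) = g) (g : G) :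
    α (g * (α g)⁻¹) = (g * (α g)⁻¹)⁻¹ := by
  rw [map_mul, map_inv, h2, mul_inv_rev, inv_inv]

theorem iterate_of_inverted (α : MulAut G) {y : G} (hy : α y = y⁻¹) (i : ℕ) :
    (fun c : G => c * (α c)⁻¹)^[i] y = y ^ 2 ^ i := by
  induction i with
  | zero => simp
  | succ i ih =>
    rw [Function.iterate_succ_apply', ih]
    show y ^ 2 ^ i * (α (y ^ 2 ^ i))⁻¹ = y ^ 2 ^ (i + 1)
    rw [map_pow, hy, inv_pow, inv_inv, ← pow_add, ← two_mul, ← pow_succ']

theorem two_pow_not_dvd [Finite G] (g : G) : ¬ 2 ^ Nat.card G ∣ orderOf g := fun h =>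
  absurd ((Nat.le_of_dvd (orderOf_pos g) h).trans (orderOf_le_card (x := g)))
    (Nat.not_le.2 Nat.lt_two_pow_self)

/-- A normal subgroup with a trivially intersecting centraliser, and faithful conjugation. -/
theorem card_le_centralizer_mul_factorial [Finite G] (U : Subgroup G) [U.Normal] :
    Nat.card G ≤ Nat.card (centralizer (U : Set G)) * (Nat.card U).factorial := by
  classical
  have : Fintype U := Fintype.ofFinite U
  let f : G →* Equiv.Perm U :=
    { toFun := fun g => (MulAut.conjNormal g : MulAut U).toEquiv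
      map_one' := by simp; rfl
      map_mul' := fun a b => by rw [map_mul]; rfl }
  rw [← f.ker.card_mul_index, index_ker]
  refine Nat.mul_le_mul (Subgroup.card_le_of_le fun g hg => mem_centralizer_iff.mpr fun u hu => ?_) ?_
  · have h1 : MulAut.conjNormal g ⟨u, hu⟩ = (⟨u, hu⟩ : U) := Equiv.congr_fun hg _
    have h2 : g * u * g⁻¹ = u := by simpa using congrArg Subtype.val h1
    exact (mul_inv_eq_iff_eq_mul.mp h2).symm
  · refine (Subgroup.card_le_card_group _).trans ?_
    rw [Nat.card_eq_fintype_card, Fintype.card_perm, Nat.card_eq_fintype_card]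

end Cfsg.Agent.H26.InvertedBound
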