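import Cfsg.Agent.H26.InvertedBound.Radical
import Cfsg.Agent.S3927
import Cfsg.Agent.S3949

/-!
A group generated by the `g α(g)⁻¹` is bounded by the number of inverted elements of odd order.
-/

set_option autoImplicit false

namespace Cfsg.Agent.H26.InvertedBound

open Subgroup
open scoped commutatorElement

universe u

variable {G : Type u} [Group G] [Finite G]

/-- Inverted elements of odd order lift through quotients. -/
theorem exists_lift (α : MulAut G) (h2 : ∀ g, α (α g) = g) {Q : Type*} [Group Q] (f : G →* Q)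
    (hf : Function.Surjective f) (β : MulAut Q) (hβ : ∀ g, f (α g) = β (f g)) {x : Q}
    (hx : Odd (orderOf x)) (hxi : β x = x⁻¹) :
    ∃ g : G, Odd (orderOf g) ∧ α g = g⁻¹ ∧ f g = x := by
  set M := Nat.card G with hM
  obtain ⟨e, he⟩ := exists_pow_eq_self_of_coprime (x := x) (n := 2 ^ (M + 1))
    (Nat.Coprime.pow_left _ (Nat.coprime_two_left.mpr hx))
  obtain ⟨c, hc⟩ := hf (x ^ e)
  set y := c * (α c)⁻¹
  have hy : α y = y⁻¹ := inverted_mul_inv α h2 c
  refine ⟨y ^ 2 ^ M, ?_, by rw [map_pow, hy, inv_pow], ?_⟩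
  · rw [Nat.odd_iff, ← Nat.two_dvd_ne_zero, orderOf_pow' _ (pow_ne_zero M two_ne_zero)]
    intro hdvd
    apply two_pow_not_dvd y
    obtain ⟨v, u, hu, hvu⟩ := Nat.exists_eq_pow_mul_and_not_dvd (orderOf_pos y).ne' 2 (by norm_num)
    by_contra hcon
    have hvi : v ≤ M := by
      by_contra hlt
      exact hcon (hvu ▸ dvd_mul_of_dvd_left (pow_dvd_pow 2 (by omega)) u)
    have hcop : Nat.Coprime u (2 ^ M) :=
      (((Nat.prime_two.coprime_iff_not_dvd).mpr hu).pow_left M).symm
    rw [hvu, Nat.Coprime.gcd_mul_right_cancel _ hcop, Nat.gcd_eq_left (pow_dvd_pow 2 hvi),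
      Nat.mul_div_cancel_left u (pow_pos two_pos v)] at hdvd
    exact hu hdvd
  · rw [map_pow, map_mul, map_inv, hβ, hc, map_pow, hxi, inv_pow, inv_inv, ← pow_add, ← two_mul,
      ← pow_mul]
    rw [show 2 * e * 2 ^ M = e * 2 ^ (M + 1) by ring]
    rw [← pow_mul] at he
    rwa [mul_comm]

theorem card_odd_inverted_le (α : MulAut G) (h2 : ∀ g, α (α g) = g) {Q : Type*} [Group Q] [Finite Q]
    (f : G →* Q) (hf : Function.Surjective f) (β : MulAut Q) (hβ : ∀ g, f (α g) = β (f g)) :
    Nat.card {x : Q // Odd (orderOf x) ∧ β x = x⁻¹} ≤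
      Nat.card {g : G // Odd (orderOf g) ∧ α g = g⁻¹} := by
  choose s hs using fun x : {x : Q // Odd (orderOf x) ∧ β x = x⁻¹} =>
    exists_lift α h2 f hf β hβ x.2.1 x.2.2
  exact Nat.card_le_card_of_injective (fun x => ⟨s x, (hs x).1, (hs x).2.1⟩) fun x y h =>
    Subtype.ext ((hs x).2.2.symm.trans ((congrArg (fun z => f z.1) h).trans (hs y).2.2))

/-- The bound. -/
def mainBnd (m : ℕ) : ℕ :=
  m * genBnd m m.factorial ^ (genBnd m m.factorial * (genBnd m m.factorial * genBnd m m.factorial) + 1)

theorem card_le_mainBnd (α : MulAut G) (hα : orderOf α = 2)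
    (hG : Subgroup.closure (Set.range (fun c : G => c * (α c)⁻¹)) = ⊤) :
    Nat.card G ≤ mainBnd (Nat.card {g : G // Odd (orderOf g) ∧ α g = g⁻¹}) := by
  classical
  have h2 : ∀ g, α (α g) = g := fun g => by
    have h := congrArg (fun β : MulAut G => β g) (pow_orderOf_eq_one α)
    simpa only [hα, sq, MulAut.mul_apply, MulAut.one_apply] using h
  set J := {g : G | Odd (orderOf g) ∧ α g = g⁻¹} with hJ
  set m := Nat.card {g : G // Odd (orderOf g) ∧ α g = g⁻¹}
  have hJtop : Subgroup.closure J = ⊤ := by
    rw [hJ, ← S3949.result α hα hG (Nat.card G) fun g _ => two_pow_not_dvd g]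
    exact S3927.result α hG _ Nat.card_pos
  have hJZ : ∀ g : G, (∀ y ∈ J, g * y = y * g) → g ∈ center G := fun g hg => by
    have h1 : (⊤ : Subgroup G) ≤ centralizer ({g} : Set G) :=
      hJtop ▸ (closure_le _).mpr fun y hy => mem_centralizer_singleton_iff.mpr (hg y hy).symm
    exact mem_center_iff.mpr fun y => mem_centralizer_singleton_iff.mp (h1 (mem_top y))
  have hZ : ∀ x ∈ center G, α x ∈ center G := fun x hx => inv_of_characteristic α x hx
  set X := G ⧸ center G
  set β := quot α h2 (center G) hZ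
  have hfix : Nat.card (fix β) ≤ m.factorial := by
    have hJi : ∀ (x : fix β) (y : G), y ∈ J →
        Quotient.out (x : X) * y * (Quotient.out (x : X))⁻¹ ∈ J := by
      intro x y hy
      set g := Quotient.out (x : X)
      have hz : g⁻¹ * α g ∈ center G := by
        rw [← QuotientGroup.eq, ← quot_mk α h2 (center G) hZ g, QuotientGroup.out_eq']
        exact x.2.symm
      refine ⟨?_, ?_⟩
      · rw [show g * y * g⁻¹ = MulAut.conj g y from rfl, MulEquiv.orderOf_eq]
        exact hy.1
      · obtain ⟨z, hzc, hzg⟩ : ∃ z ∈ center G, α g = g * z := ⟨_, hz, by group⟩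
        rw [map_mul, map_mul, map_inv, hy.2, hzg, mul_inv_rev, mul_inv_rev, inv_inv, mul_inv_rev]
        have hc : z * y⁻¹ = y⁻¹ * z := (mem_center_iff.mp hzc y⁻¹).symm
        calc g * z * y⁻¹ * (z⁻¹ * g⁻¹) = g * (z * y⁻¹) * z⁻¹ * g⁻¹ := by group
          _ = g * (y⁻¹ * z) * z⁻¹ * g⁻¹ := by rw [hc]
          _ = g * (y⁻¹ * g⁻¹) := by group
    let f : fix β → (J → J) := fun x y => ⟨_, hJi x y y.2⟩
    have hbij : ∀ x, Function.Bijective (f x) := fun x => Finite.injective_iff_bijective.mp
      fun a b h => Subtype.ext (mul_left_cancel (mul_right_cancel (congrArg Subtype.val h)))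
    haveI : Fintype J := Fintype.ofFinite J
    have hperm : Nat.card (Equiv.Perm J) = m.factorial := by
      rw [Nat.card_eq_fintype_card, Fintype.card_perm, ← Nat.card_eq_fintype_card]
      rfl
    refine (Nat.card_le_card_of_injective (fun x => Equiv.ofBijective (f x) (hbij x))
      fun x x' h => ?_).trans hperm.le
    refine Subtype.ext ?_
    rw [← QuotientGroup.out_eq' (x : X), ← QuotientGroup.out_eq' (x' : X), QuotientGroup.eq]
    refine hJZ _ fun y hy => ?_
    have h' : Quotient.out (x : X) * y * (Quotient.out (x : X))⁻¹ =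
        Quotient.out (x' : X) * y * (Quotient.out (x' : X))⁻¹ :=
      congrArg Subtype.val (Equiv.congr_fun h ⟨y, hy⟩)
    calc (Quotient.out (x : X))⁻¹ * Quotient.out (x' : X) * y
        = (Quotient.out (x : X))⁻¹ * (Quotient.out (x' : X) * y * (Quotient.out (x' : X))⁻¹) *
            Quotient.out (x' : X) := by group
      _ = (Quotient.out (x : X))⁻¹ * (Quotient.out (x : X) * y * (Quotient.out (x : X))⁻¹) *
            Quotient.out (x' : X) := by rw [h']
      _ = y * ((Quotient.out (x : X))⁻¹ * Quotient.out (x' : X)) := by group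
  have hgen : Gen β m m.factorial := by
    refine ⟨quot_two α h2 _ hZ, hfix, card_odd_inverted_le α h2 (QuotientGroup.mk' _)
      (QuotientGroup.mk'_surjective _) β (fun g => rfl), ?_, ?_⟩
    · rw [eq_top_iff, ← Subgroup.map_top_of_surjective _ (QuotientGroup.mk'_surjective (center G)),
        ← hG, MonoidHom.map_closure]
      refine closure_mono ?_
      rintro _ ⟨_, ⟨c, rfl⟩, rfl⟩
      exact ⟨(c : X), by simp [β, quot_mk]⟩
    · intro x hx hpow
      obtain ⟨a, ha⟩ := hpow
      induction x using QuotientGroup.induction_on with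
      | H g =>
      refine (QuotientGroup.eq_one_iff g).mpr (hJZ g fun y hy => ?_)
      have hc : ⁅y, g⁆ ∈ center G := by
        rw [← QuotientGroup.eq_one_iff, commutatorElement_def, QuotientGroup.mk_mul,
          QuotientGroup.mk_mul, QuotientGroup.mk_mul, QuotientGroup.mk_inv, QuotientGroup.mk_inv,
          mem_center_iff.mp hx (y : X)]
        group
      set c := ⁅y, g⁆ with hcdef
      have hcg : y * g * y⁻¹ = c * g := by rw [hcdef, commutatorElement_def]; group
      have hcy : g * y * g⁻¹ = c⁻¹ * y := by rw [hcdef, commutatorElement_def]; group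
      have hga : g ^ 2 ^ a ∈ center G := (QuotientGroup.eq_one_iff _).mp ha
      have h1 : c ^ 2 ^ a = 1 := by
        have h := conj_pow (a := y) (b := g) (i := 2 ^ a)
        rw [hcg, Commute.mul_pow (mem_center_iff.mp hc g).symm, mem_center_iff.mp hga y,
          mul_inv_cancel_right] at h
        exact mul_eq_right.mp h
      have h3 : c⁻¹ ^ orderOf y = 1 := by
        have h := conj_pow (a := g) (b := y) (i := orderOf y)
        rw [hcy, Commute.mul_pow (mem_center_iff.mp (inv_mem hc) y).symm, pow_orderOf_eq_one,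
          mul_one, mul_one, mul_inv_cancel] at h
        exact h
      rw [inv_pow, inv_eq_one] at h3
      have hc1 : c = 1 := by
        have := pow_gcd_eq_one.mpr ⟨h1, h3⟩
        rwa [Nat.Coprime.gcd_eq_one, pow_one] at this
        exact Nat.Coprime.pow_left _ (Nat.coprime_two_left.mpr hy.1)
      rw [hc1, one_mul, mul_inv_eq_iff_eq_mul] at hcg
      exact hcg.symm
  have hX : (center G).index ≤ genBnd m m.factorial := card_le_genBnd hgen
  -- the commutator quotient
  have hA : (_root_.commutator G).index ≤ m := by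
    have hci : ∀ x ∈ _root_.commutator G, α x ∈ _root_.commutator G :=
      fun x hx => inv_of_characteristic α x hx
    set γ := quot α h2 (_root_.commutator G) hci
    have hall : ∀ a : G ⧸ _root_.commutator G, Odd (orderOf a) ∧ γ a = a⁻¹ := by
      have hcomm : ∀ a b : G ⧸ _root_.commutator G, Commute a b := fun a b => by
        induction a using QuotientGroup.induction_on with
        | H a => induction b using QuotientGroup.induction_on with
          | H b =>
            refine QuotientGroup.eq.mpr ?_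
            rw [show (a * b)⁻¹ * (b * a) = ⁅b⁻¹, a⁻¹⁆ by rw [commutatorElement_def]; group]
            exact commutator_mem_commutator (mem_top _) (mem_top _)
      intro a
      induction a using QuotientGroup.induction_on with
      | H g =>
      induction (show g ∈ closure J from hJtop ▸ mem_top g) using Subgroup.closure_induction with
      | mem y hy =>
        exact ⟨hy.1.of_dvd_nat (orderOf_map_dvd (QuotientGroup.mk' _) y), by
          rw [quot_mk, hy.2, QuotientGroup.mk_inv]⟩
      | one => simp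
      | mul a b _ _ ha hb =>
        rw [QuotientGroup.mk_mul]
        refine ⟨((ha.1.mul hb.1)).of_dvd_nat ((hcomm _ _).orderOf_mul_dvd_mul_orderOf), ?_⟩
        rw [map_mul, ha.2, hb.2, mul_inv_rev, (hcomm _ _).inv_inv.eq]
      | inv a _ ha =>
        rw [QuotientGroup.mk_inv]
        exact ⟨by rw [orderOf_inv]; exact ha.1, by rw [map_inv, ha.2]⟩
    refine le_trans ?_ (card_odd_inverted_le α h2 (QuotientGroup.mk' _)
      (QuotientGroup.mk'_surjective _) γ (fun g => rfl))
    exact le_of_eq (Nat.card_congr (Equiv.subtypeUnivEquiv hall).symm)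
  have hset : Nat.card (commutatorSet G) ≤ genBnd m m.factorial * genBnd m m.factorial := by
    refine le_trans ?_ (Nat.mul_le_mul hX hX)
    rw [Subgroup.index, ← Nat.card_prod]
    refine Nat.card_le_card_of_surjective (fun p : X × X => (⟨⁅Quotient.out p.1, Quotient.out p.2⁆,
      commutator_mem_commutatorSet _ _⟩ : commutatorSet G)) ?_
    rintro ⟨_, a, b, rfl⟩
    refine ⟨((a : X), (b : X)), Subtype.ext ?_⟩
    show ⁅Quotient.out (a : X), Quotient.out (b : X)⁆ = ⁅a, b⁆
    obtain ⟨⟨z, hz⟩, hza⟩ := QuotientGroup.mk_out_eq_mul (center G) a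
    obtain ⟨⟨w, hw⟩, hwb⟩ := QuotientGroup.mk_out_eq_mul (center G) b
    rw [hza, hwb]
    simp only [commutatorElement_def, mul_inv_rev]
    have e1 : ∀ t : G, z * t = t * z := fun t => (mem_center_iff.mp hz t).symm
    have e2 : ∀ t : G, w * t = t * w := fun t => (mem_center_iff.mp hw t).symm
    calc a * z * (b * w) * (z⁻¹ * a⁻¹) * (w⁻¹ * b⁻¹)
        = a * (z * (b * w)) * z⁻¹ * a⁻¹ * w⁻¹ * b⁻¹ := by group
      _ = a * b * (w * a⁻¹) * w⁻¹ * b⁻¹ := by rw [e1]; group
      _ = a * b * a⁻¹ * b⁻¹ := by rw [e2]; group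
  rw [← (_root_.commutator G).card_mul_index, mul_comm]
  refine Nat.mul_le_mul hA ((Nat.le_of_dvd (pow_pos (Nat.pos_of_ne_zero (center G).index_ne_zero_of_finite) _)
    (card_commutator_dvd_index_center_pow G)).trans ?_)
  exact (Nat.pow_le_pow_left hX _).trans (Nat.pow_le_pow_right
    (lt_of_lt_of_le (Nat.pos_of_ne_zero (center G).index_ne_zero_of_finite) hX)
    (Nat.add_le_add_right (Nat.mul_le_mul hX hset) 1))

end Cfsg.Agent.H26.InvertedBound
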