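import Cfsg.Agent.S3927
import Cfsg.Agent.S3949
import Cfsg.Agent.H26.InvertedBound.Basic

/-!
The graph of odd products on a class of involutions.
-/

set_option autoImplicit false

namespace Cfsg.Agent.H26.InvertedBound

variable {G : Type*} [Group G]

/-- When the commutators with an involution generate, the odd inverted elements generate. -/
theorem closure_inverted [Finite G] (α : MulAut G) (hα : orderOf α = 2)
    (hG : Subgroup.closure (Set.range (fun c : G => c * (α c)⁻¹)) = ⊤) :
    Subgroup.closure {g : G | Odd (orderOf g) ∧ α g = g⁻¹} = ⊤ := by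
  rw [← S3949.result α hα hG (Nat.card G) fun g _ => two_pow_not_dvd g]
  exact S3927.result α hG _ Nat.card_pos

/-- In a simple group the commutators with a noncentral element generate. -/
theorem closure_commutators [IsSimpleGroup G] {t : G} (ht : t ∉ Subgroup.center G) :
    Subgroup.closure (Set.range fun c : G => c * (MulAut.conj t c)⁻¹) = ⊤ := by
  set R := Subgroup.closure (Set.range fun c : G => c * (MulAut.conj t c)⁻¹) with hR
  have hn : R.Normal := by
    refine ⟨fun x hx g => ?_⟩
    induction hx using Subgroup.closure_induction with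
    | mem y hy =>
      obtain ⟨c, rfl⟩ := hy
      have e : g * (c * (MulAut.conj t c)⁻¹) * g⁻¹ =
          (g * c * (MulAut.conj t (g * c))⁻¹) * (g * (MulAut.conj t g)⁻¹)⁻¹ := by
        simp only [MulAut.conj_apply]; group
      rw [e]
      exact mul_mem (Subgroup.subset_closure ⟨_, rfl⟩) (inv_mem (Subgroup.subset_closure ⟨_, rfl⟩))
    | one => simp
    | mul a b _ _ ha hb =>
      rw [show g * (a * b) * g⁻¹ = g * a * g⁻¹ * (g * b * g⁻¹) by group]
      exact mul_mem ha hb
    | inv a _ ha =>
      rw [show g * a⁻¹ * g⁻¹ = (g * a * g⁻¹)⁻¹ by group]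
      exact inv_mem ha
  refine (IsSimpleGroup.eq_bot_or_eq_top_of_normal R hn).resolve_left fun h => ht ?_
  refine Subgroup.mem_center_iff.mpr fun g => ?_
  have hg : g * (MulAut.conj t g)⁻¹ ∈ R := Subgroup.subset_closure ⟨g, rfl⟩
  rw [h, Subgroup.mem_bot, MulAut.conj_apply, mul_inv_eq_one] at hg
  exact eq_mul_inv_iff_mul_eq.mp hg

/-- The odd-product graph on a class of involutions of a simple group is connected. -/
theorem oddGraph_connected [Finite G] [IsSimpleGroup G] {t : G} (ht : orderOf t = 2)
    (htc : t ∉ Subgroup.center G) :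
    (SimpleGraph.fromRel fun x y : {x : G // IsConj t x} => Odd (orderOf (x.1 * y.1))).Connected := by
  set Γ := SimpleGraph.fromRel fun x y : {x : G // IsConj t x} => Odd (orderOf (x.1 * y.1)) with hΓ
  let cj (g : G) (x : {x : G // IsConj t x}) : {x : G // IsConj t x} :=
    ⟨g * x.1 * g⁻¹, x.2.trans (isConj_iff.mpr ⟨g, rfl⟩)⟩
  have hcj : ∀ g {x y}, Γ.Reachable x y → Γ.Reachable (cj g x) (cj g y) := by
    intro g x y h
    refine SimpleGraph.Reachable.map (⟨cj g, ?_⟩ : Γ →g Γ) h
    intro a b hab
    rw [hΓ, SimpleGraph.fromRel_adj] at hab ⊢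
    have e : ∀ u v : {x : G // IsConj t x},
        orderOf ((cj g u).1 * (cj g v).1) = orderOf (u.1 * v.1) := fun u v => by
      rw [show (cj g u).1 * (cj g v).1 = MulAut.conj g (u.1 * v.1) by
        simp [cj, MulAut.conj_apply, mul_assoc], MulEquiv.orderOf_eq]
    refine ⟨fun hh => hab.1 (Subtype.ext ?_), by rw [e, e]; exact hab.2⟩
    exact mul_left_cancel (mul_right_cancel (congrArg Subtype.val hh))
  let t₀ : {x : G // IsConj t x} := ⟨t, IsConj.refl t⟩
  let S : Subgroup G :=
    { carrier := {g | Γ.Reachable t₀ (cj g t₀)}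
      one_mem' := by
        rw [Set.mem_setOf_eq, show cj 1 t₀ = t₀ from Subtype.ext (by simp [cj, t₀])]
      mul_mem' := fun {a b} ha hb => by
        rw [Set.mem_setOf_eq, show cj (a * b) t₀ = cj a (cj b t₀) from
          Subtype.ext (by simp [cj, mul_assoc])]
        exact ha.trans (hcj a hb)
      inv_mem' := fun {a} ha => by
        have h := hcj a⁻¹ ha
        rw [show cj a⁻¹ (cj a t₀) = t₀ from Subtype.ext (by simp [cj, t₀, mul_assoc])] at h
        exact h.symm }
  have hα2 : orderOf (MulAut.conj t) = 2 := by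
    refine orderOf_eq_prime ?_ fun h => htc ?_
    · rw [← map_pow, show t ^ 2 = 1 by rw [← ht]; exact pow_orderOf_eq_one t, map_one]
    · refine Subgroup.mem_center_iff.mpr fun g => ?_
      have := MulEquiv.congr_fun h g
      rw [MulAut.conj_apply, MulAut.one_apply, mul_inv_eq_iff_eq_mul] at this
      exact this.symm
  have htinv : t⁻¹ = t := inv_eq_of_mul_eq_one_right (by rw [← pow_two, ← ht]; exact pow_orderOf_eq_one t)
  have hS : S = ⊤ := by
    rw [← top_le_iff, ← closure_inverted (MulAut.conj t) hα2 (closure_commutators htc),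
      Subgroup.closure_le]
    rintro y ⟨hy, hyt⟩
    rw [MulAut.conj_apply, htinv] at hyt
    obtain ⟨e, he⟩ := exists_pow_eq_self_of_coprime (x := y) (n := 2)
      (Nat.coprime_two_left.mpr hy)
    set z := y ^ e with hz
    have hzt : t * z⁻¹ = z * t := by
      have hc : (t * y * t⁻¹) ^ e = t * z * t⁻¹ := conj_pow
      rw [htinv, hyt, inv_pow, ← hz] at hc
      rw [hc, ← mul_assoc, ← mul_assoc]
      nth_rewrite 1 [← htinv]
      group
    have hyz : y = z * z := by rw [hz, ← pow_add, ← two_mul, pow_mul]; exact he.symm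
    have hmem : z ∈ S := by
      show Γ.Reachable t₀ (cj z t₀)
      by_cases hne : t₀ = cj z t₀
      · rw [← hne]
      refine SimpleGraph.Adj.reachable ?_
      rw [hΓ, SimpleGraph.fromRel_adj]
      refine ⟨hne, Or.inr ?_⟩
      show Odd (orderOf (z * t * z⁻¹ * t))
      have e1 : z * t * z⁻¹ * t = y := by
        rw [hyz, mul_assoc z t, hzt, ← mul_assoc, mul_assoc (z * z) t t]
        nth_rewrite 1 [← htinv]
        group
      rw [e1]; exact hy
    rw [hyz]
    exact mul_mem hmem hmem
  refine { preconnected := fun x y => ?_, nonempty := ⟨t₀⟩ }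
  have key : ∀ x, Γ.Reachable t₀ x := fun x => by
    obtain ⟨g, hg⟩ := isConj_iff.mp x.2
    have : Γ.Reachable t₀ (cj g t₀) := (hS ▸ Subgroup.mem_top g : g ∈ S)
    rwa [show cj g t₀ = x from Subtype.ext hg] at this
  exact (key x).symm.trans (key y)

end Cfsg.Agent.H26.InvertedBound
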