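import Cfsg.Agent.H26.InvertedBound.Semisimple
import Cfsg.Agent.PGroups.Critical
import Cfsg.Agent.Cores.PCore

/-!
A group generated by the `g β(g)⁻¹` without central involutions is bounded by the number of fixed
points and the number of inverted elements of odd order.
-/

set_option autoImplicit false

namespace Cfsg.Agent.H26.InvertedBound

open Subgroup

universe u

variable {X : Type u} [Group X] [Finite X] {β : MulAut X} {m k : ℕ}

/-- An invariant subgroup of odd order is bounded by the inverted elements of odd order. -/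
theorem card_odd_le (h2 : ∀ g, β (β g) = g) (hk : Nat.card (fix β) ≤ k)
    (hm : Nat.card {g : X // Odd (orderOf g) ∧ β g = g⁻¹} ≤ m) (N : Subgroup X)
    (hN : ∀ x ∈ N, β x ∈ N) (hodd : Odd (Nat.card N)) : Nat.card N ≤ k * m := by
  refine (card_le_fix_mul β (N : Set X) {g : X | Odd (orderOf g) ∧ β g = g⁻¹} fun g hg =>
    ⟨?_, inverted_mul_inv β h2 g⟩).trans (Nat.mul_le_mul hk hm)
  exact hodd.of_dvd_nat (orderOf_dvd_natCard N (mul_mem hg (inv_mem (hN g hg))))

variable (β) in
/-- The hypotheses on `X`. -/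
structure Gen (m k : ℕ) : Prop where
  two : ∀ g, β (β g) = g
  hk : Nat.card (fix β) ≤ k
  hm : Nat.card {g : X // Odd (orderOf g) ∧ β g = g⁻¹} ≤ m
  gen : Subgroup.closure (Set.range fun c : X => c * (β c)⁻¹) = ⊤
  central : ∀ x ∈ center X, (∃ a : ℕ, x ^ 2 ^ a = 1) → x = 1

/-- A normal abelian invariant 2-subgroup has exponent dividing `|C(β)|` and bounded order. -/
theorem card_abelian_le (hX : Gen β m k) (A : Subgroup X) [A.Normal] (hA : ∀ x ∈ A, β x ∈ A)
    (hcomm : ∀ a ∈ A, ∀ b ∈ A, a * b = b * a) (hp : IsPGroup 2 A) :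
    Nat.card A ≤ k * k ^ k := by
  classical
  set c := Nat.card (fix β) with hc
  have hexp : ∀ a ∈ A, a ^ c = 1 := by
    intro a ha
    have hinv : ∀ a ∈ A, β (a ^ c) = (a ^ c)⁻¹ := by
      intro a ha
      have hf : a * β a ∈ fix β := by rw [mem_fix, map_mul, hX.two, hcomm (β a) (hA a ha) a ha]
      have h1 : (a * β a) ^ c = 1 := by
        have h : (⟨a * β a, hf⟩ : fix β) ^ c = 1 := pow_card_eq_one'
        exact congrArg Subtype.val h
      rw [Commute.mul_pow (hcomm a ha (β a) (hA a ha))] at h1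
      rw [map_pow]; exact eq_inv_of_mul_eq_one_right h1
    refine hX.central _ ?_ ?_
    · rw [mem_center_iff]
      intro g
      have htop : (⊤ : Subgroup X) ≤ centralizer ({a ^ c} : Set X) := by
        rw [← hX.gen, closure_le]
        rintro _ ⟨b, rfl⟩
        have hb : b⁻¹ * a * b ∈ A := by simpa using Normal.conj_mem inferInstance a ha b⁻¹
        have h1 := hinv _ hb
        have h2 : (b⁻¹ * a * b) ^ c = b⁻¹ * a ^ c * b := by
          simpa using (conj_pow (a := b⁻¹) (b := a) (i := c))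
        rw [h2, map_mul, map_mul, map_inv, hinv a ha] at h1
        refine mem_centralizer_singleton_iff.mpr ?_
        calc b * (β b)⁻¹ * a ^ c = b * ((β b)⁻¹ * (a ^ c)⁻¹ * β b)⁻¹ * (β b)⁻¹ := by group
          _ = b * (b⁻¹ * a ^ c * b) * (β b)⁻¹ := by rw [h1, inv_inv]
          _ = a ^ c * (b * (β b)⁻¹) := by group
      exact (mem_centralizer_singleton_iff.mp (htop (mem_top g)))
    · obtain ⟨n, hn⟩ := hp ⟨a, ha⟩
      exact ⟨n, by rw [← pow_mul, mul_comm, pow_mul,
        show a ^ 2 ^ n = 1 by simpa using congrArg Subtype.val hn, one_pow]⟩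
  have h2c : ∀ a ∈ A, a ^ 2 ^ c = 1 := by
    intro a ha
    obtain ⟨n, hn⟩ := hp ⟨a, ha⟩
    obtain ⟨j, hj, hj'⟩ := (Nat.dvd_prime_pow Nat.prime_two).mp
      (orderOf_dvd_of_pow_eq_one (show a ^ 2 ^ n = 1 by simpa using congrArg Subtype.val hn))
    have hle : 2 ^ j ≤ c :=
      hj' ▸ Nat.le_of_dvd Nat.card_pos (orderOf_dvd_of_pow_eq_one (hexp a ha))
    exact orderOf_dvd_iff_pow_eq_one.mp
      (hj' ▸ pow_dvd_pow 2 (le_trans Nat.lt_two_pow_self.le hle))
  let I : ℕ → Set X := fun i => {a | a ∈ A ∧ β a = a⁻¹ ∧ a ^ 2 ^ i = 1}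
  have hI : ∀ i, Nat.card (I i) ≤ k ^ i := by
    intro i
    induction i with
    | zero =>
      have : I 0 ⊆ {1} := fun a ha => by simpa using ha.2.2
      rw [pow_zero]
      exact (Nat.card_mono (Set.finite_singleton _) this).trans (by simp)
    | succ i ih =>
      have : Fintype X := Fintype.ofFinite X
      rw [Nat.card_eq_card_toFinset (I i)] at ih
      rw [Nat.card_eq_card_toFinset (I (i + 1))]
      refine le_trans ?_ (le_of_eq (pow_succ' k i).symm)
      refine (Finset.card_le_mul_card_image_of_maps_to (f := fun a => a ^ 2) ?_ k ?_).trans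
        (Nat.mul_le_mul_left k ih)
      · intro a ha
        rw [Set.mem_toFinset] at ha ⊢
        refine ⟨pow_mem ha.1 2, by rw [map_pow, ha.2.1, inv_pow], ?_⟩
        rw [← pow_mul, ← pow_succ']; exact ha.2.2
      · intro t _
        rcases ((I (i + 1)).toFinset.filter fun a => a ^ 2 = t).eq_empty_or_nonempty with he | ⟨a₀, ha₀⟩
        · simp [he]
        rw [Finset.mem_filter, Set.mem_toFinset] at ha₀
        refine le_trans ?_ ((Nat.card_eq_fintype_card (α := fix β)).symm.trans_le hX.hk)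
        have hmem : ∀ a ∈ (I (i + 1)).toFinset.filter (fun a => a ^ 2 = t),
            a₀⁻¹ * a ∈ fix β := by
          intro a ha
          rw [Finset.mem_filter, Set.mem_toFinset] at ha
          have hcc : Commute a₀⁻¹ a := hcomm _ (inv_mem ha₀.1.1) _ ha.1.1
          have hsq : (a₀⁻¹ * a) * (a₀⁻¹ * a) = 1 := by
            rw [← pow_two, hcc.mul_pow, inv_pow, ha₀.2, ha.2, inv_mul_cancel]
          rw [mem_fix, map_mul, map_inv, ha₀.1.2.1, ha.1.2.1, inv_inv]
          calc a₀ * a⁻¹ = (a * a₀⁻¹)⁻¹ := by group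
            _ = (a₀⁻¹ * a)⁻¹ := by rw [hcc.eq]
            _ = a₀⁻¹ * a := inv_eq_of_mul_eq_one_right hsq
        refine Finset.card_le_card_of_injOn (fun a => if h : a₀⁻¹ * a ∈ fix β then
          (⟨_, h⟩ : fix β) else 1) (fun a _ => Finset.mem_univ _) ?_
        intro a ha b hb hab
        simp only [dif_pos (hmem a ha), dif_pos (hmem b hb), Subtype.mk.injEq] at hab
        exact mul_left_cancel hab
  refine (card_le_fix_mul β (A : Set X) (I c) fun g hg => ⟨mul_mem hg (inv_mem (hA g hg)),
    inverted_mul_inv β hX.two g, h2c _ (mul_mem hg (inv_mem (hA g hg)))⟩).trans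
      (Nat.mul_le_mul hX.hk ((hI c).trans ?_))
  exact Nat.pow_le_pow_right (lt_of_lt_of_le Nat.card_pos hX.hk) hX.hk

/-- The bound on `O₂`. -/
def twoBnd (k : ℕ) : ℕ := (k * (k * k ^ k)) ^ 2 * ((k * (k * k ^ k)) ^ 2).factorial

/-- `O₂` is bounded. -/
theorem card_pCore_two_le (hX : Gen β m k) : Nat.card (Cfsg.pCore 2 X) ≤ twoBnd k := by
  classical
  haveI := Fact.mk Nat.prime_two
  set P := Cfsg.pCore 2 X with hP
  have hPp : IsPGroup 2 P := Cores.pCore_isPGroup
  have hPn : P.Normal := inferInstance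
  have hPi : ∀ x ∈ P, β x ∈ P := fun x hx => by
    rw [hP, ← Cores.pCore_map_mulEquiv β]
    exact ⟨x, hx, rfl⟩
  obtain ⟨H, hHc, hHf, -, hHC⟩ := PGroups.exists_critical hPp
  haveI := hHc
  haveI := hPn
  set HX := H.map P.subtype with hHX
  haveI hHn : HX.Normal := by
    refine ⟨fun x hx g => ?_⟩
    obtain ⟨h, hh, rfl⟩ := hx
    exact ⟨MulAut.conjNormal g h,
      (PGroups.apply_mem_iff_of_characteristic hHc _).mpr hh, by simp⟩
  have hHi : ∀ x ∈ HX, β x ∈ HX := by
    rintro _ ⟨h, hh, rfl⟩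
    exact ⟨restrict β hX.two P hPi h, (PGroups.apply_mem_iff_of_characteristic hHc _).mpr hh, rfl⟩
  have hHp : IsPGroup 2 HX := (hPp.to_subgroup H).map P.subtype
  set Z := HX ⊓ centralizer (HX : Set X) with hZ
  have hZi : ∀ x ∈ Z, β x ∈ Z := fun x hx => ⟨hHi x hx.1, mem_centralizer_iff.mpr fun u hu => by
    have := congrArg β (mem_centralizer_iff.mp hx.2 (β u) (hHi u hu))
    rwa [map_mul, map_mul, hX.two] at this⟩
  have hZc : ∀ a ∈ Z, ∀ b ∈ Z, a * b = b * a := fun a ha b hb => mem_centralizer_iff.mp hb.2 a ha.1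
  have hZb := card_abelian_le hX Z hZi hZc (hHp.to_le inf_le_left)
  have hsq : ∀ x ∈ HX, x * x ∈ Z := by
    rintro _ ⟨h, hh, rfl⟩
    have h1 : (⟨h, hh⟩ : H) ^ 2 ∈ frattini H :=
      PGroups.pow_mem_frattini (hPp.to_subgroup H) _
    refine ⟨mul_mem ⟨h, hh, rfl⟩ ⟨h, hh, rfl⟩, mem_centralizer_iff.mpr ?_⟩
    rintro _ ⟨u, hu, rfl⟩
    have h2 := mem_centralizer_iff.mp (hHf ⟨_, h1, rfl⟩) u hu
    simpa [pow_two] using congrArg P.subtype h2
  -- the preimage of the fixed points of `HX / Z`
  set C₀ : Set X := {h | h ∈ HX ∧ h * (β h)⁻¹ ∈ Z} with hC₀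
  have hC₀b : Nat.card C₀ ≤ k * (k * k ^ k) :=
    (card_le_fix_mul β C₀ Z fun g hg => hg.2).trans (Nat.mul_le_mul hX.hk hZb)
  have hHb : Nat.card HX ≤ (k * (k * k ^ k)) ^ 2 := by
    let q := QuotientGroup.mk' (Z.subgroupOf HX)
    haveI : (Z.subgroupOf HX).Normal := inferInstance
    have hq : ∀ x : HX, q x * q x = 1 := fun x => by
      rw [← map_mul]; exact (QuotientGroup.eq_one_iff _).mpr (hsq _ x.2)
    have hqc : ∀ a b : HX ⧸ Z.subgroupOf HX, a * b = b * a := by
      intro a b
      have hsqq : ∀ y : HX ⧸ Z.subgroupOf HX, y * y = 1 := fun y => by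
        induction y using QuotientGroup.induction_on with
        | H x => exact hq x
      have hi : ∀ y : HX ⧸ Z.subgroupOf HX, y⁻¹ = y := fun y => inv_eq_of_mul_eq_one_right (hsqq y)
      calc a * b = (a * b)⁻¹ := (hi _).symm
        _ = b * a := by rw [mul_inv_rev, hi a, hi b]
    let γ : HX →* HX := (restrict β hX.two HX hHi).toMonoidHom
    let φ : HX →* HX ⧸ Z.subgroupOf HX :=
      { toFun := fun h => q h * q (γ h)
        map_one' := by simp
        map_mul' := fun a b => by
          rw [map_mul, map_mul, map_mul, mul_assoc, ← mul_assoc (q b), hqc (q b) (q (γ a))]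
          group }
    have hrange : Nat.card φ.range ≤ Nat.card C₀ := by
      refine Nat.card_le_card_of_injective (fun y : φ.range =>
        (⟨((Quotient.out (y : HX ⧸ Z.subgroupOf HX) : HX) : X),
          (Quotient.out (y : HX ⧸ Z.subgroupOf HX) : HX).2, ?_⟩ : C₀)) fun y z h => ?_
      · set r := (Quotient.out (y : HX ⧸ Z.subgroupOf HX) : HX)
        obtain ⟨h, hh⟩ := y.2
        have hr : q r = q h * q (γ h) := (QuotientGroup.out_eq' _).trans hh.symm
        have h1 : r⁻¹ * (h * γ h) ∈ Z.subgroupOf HX :=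
          QuotientGroup.eq.mp (hr.trans (map_mul q h (γ h)).symm)
        set z := r⁻¹ * (h * γ h)
        have h3 : q (γ z) = 1 := (QuotientGroup.eq_one_iff _).mpr (hZi _ h1)
        have h4 : q (γ r) = q r := by
          have : γ r = γ h * γ (γ h) * (γ z)⁻¹ := by
            rw [show r = h * γ h * z⁻¹ by simp [z]; group, map_mul, map_mul, map_inv]
          rw [this, map_mul, map_mul, map_inv, h3, inv_one, mul_one, hr,
            show γ (γ h) = h from restrict_two β hX.two HX hHi h]
          exact hqc _ _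
        have h5 : r * (γ r)⁻¹ ∈ Z.subgroupOf HX := (QuotientGroup.eq_one_iff _).mp (by
          show q (r * (γ r)⁻¹) = 1
          rw [map_mul, map_inv, h4, mul_inv_cancel])
        exact h5
      · have h' : (Quotient.out (y : HX ⧸ Z.subgroupOf HX) : HX) =
            Quotient.out (z : HX ⧸ Z.subgroupOf HX) := Subtype.ext (congrArg Subtype.val h :)
        exact Subtype.ext (Quotient.out_injective h')
    have hker : Nat.card φ.ker ≤ Nat.card C₀ := by
      refine Nat.card_le_card_of_injective (fun y => (⟨((y : HX) : X), (y : HX).2, ?_⟩ : C₀))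
        fun y z h => Subtype.ext (Subtype.ext (congrArg Subtype.val h :))
      have hy : q y * q (γ y) = 1 := y.2
      have h5 : (y : HX) * (γ y)⁻¹ ∈ Z.subgroupOf HX := (QuotientGroup.eq_one_iff _).mp (by
        show q ((y : HX) * (γ y)⁻¹) = 1
        rw [map_mul, map_inv, inv_eq_of_mul_eq_one_left hy, hq])
      exact h5
    rw [← φ.ker.card_mul_index, index_ker, sq]
    exact (Nat.mul_le_mul hker hrange).trans (Nat.mul_le_mul hC₀b hC₀b)
  refine (card_le_centralizer_mul_factorial (G := P) H).trans (Nat.mul_le_mul ?_ ?_)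
  · refine (Subgroup.card_le_of_le hHC).trans ?_
    rwa [← Subgroup.card_map_of_injective P.subtype_injective]
  · refine Nat.factorial_le ?_
    rwa [← Subgroup.card_map_of_injective P.subtype_injective]

/-- The bound on `X`. -/
def genBnd (m k : ℕ) : ℕ :=
  twoBnd k * (k * m) * (twoBnd k * (k * m)).factorial *
    bnd (k * (twoBnd k * (k * m) * (twoBnd k * (k * m)).factorial))

theorem bnd_mono : ∀ {a b : ℕ}, a ≤ b → bnd a ≤ bnd b := by
  intro a b h
  induction h with
  | refl => exact le_rfl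
  | @step c _ ih =>
    refine ih.trans ?_
    show bnd c ≤ (_ : ℕ).factorial + bnd c * (bnd c).factorial
    exact le_add_left (Nat.le_mul_of_pos_right _ (Nat.factorial_pos _))

/-- The main bound. -/
theorem card_le_genBnd (hX : Gen β m k) : Nat.card X ≤ genBnd m k := by
  classical
  haveI := Fact.mk Nat.prime_two
  set F := Cfsg.fittingSubgroup X with hF
  have hOi : ∀ x ∈ Cfsg.oddCore X, β x ∈ Cfsg.oddCore X := fun x hx => by
    have h := Cores.pPrimeCore_map_mulEquiv (p := 2) β
    exact (le_of_eq h) ⟨x, hx, rfl⟩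
  have hFle : Nat.card F ≤ twoBnd k * (k * m) := by
    have hle : F ≤ Cfsg.pCore 2 X ⊔ Cfsg.oddCore X := by
      rw [hF, Cores.iSup_pCore_eq_fittingSubgroup]
      refine (Cores.iSup_pCore_le_sup 2).trans (sup_le le_sup_right le_sup_left)
    refine ((Subgroup.card_le_of_le hle).trans (Nat.le_of_dvd
      (Nat.mul_pos Nat.card_pos Nat.card_pos) (Cores.card_sup_dvd _ _))).trans ?_
    exact Nat.mul_le_mul (card_pCore_two_le hX)
      (card_odd_le hX.two hX.hk hX.hm _ hOi Cores.odd_card_oddCore)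
  obtain ⟨R, ⟨hRn, hRi, hRs⟩, hmax⟩ := (Set.toFinite {N : Subgroup X | N.Normal ∧
    (∀ x ∈ N, β x ∈ N) ∧ Group.IsSolvable N}).exists_maximal
      ⟨⊥, inferInstance, fun x hx => by simp_all, inferInstance⟩
  haveI := hRn
  haveI := hRs
  have hRb : Nat.card R ≤ twoBnd k * (k * m) * (twoBnd k * (k * m)).factorial := by
    have hFR : Nat.card (Cfsg.fittingSubgroup R) ≤ twoBnd k * (k * m) := by
      rw [← Subgroup.card_map_of_injective R.subtype_injective]
      exact (Subgroup.card_le_of_le (Cores.map_fittingSubgroup_le_of_normal R)).trans hFle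
    exact (card_le_centralizer_mul_factorial (Cfsg.fittingSubgroup R)).trans (Nat.mul_le_mul
      ((Subgroup.card_le_of_le Cores.centralizer_fittingSubgroup_le).trans hFR)
      (Nat.factorial_le hFR))
  set γ := quot β hX.two R hRi with hγ
  have hFQ : Cfsg.fittingSubgroup (X ⧸ R) = ⊥ := by
    set FQ := Cfsg.fittingSubgroup (X ⧸ R) with hFQ
    set N := FQ.comap (QuotientGroup.mk' R) with hN
    haveI : FQ.Normal := inferInstance
    haveI : N.Normal := Subgroup.normal_comap _
    have hRN : R ≤ N := fun x hx => by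
      show (QuotientGroup.mk' R) x ∈ FQ
      rw [(QuotientGroup.eq_one_iff x).mpr hx |> (show (QuotientGroup.mk' R) x = 1 from ·)]
      exact one_mem _
    have hNi : ∀ x ∈ N, β x ∈ N := fun x hx => by
      show ((β x : X) : X ⧸ R) ∈ FQ
      rw [← quot_mk β hX.two R hRi x, hFQ, ← Cores.fittingSubgroup_map_mulEquiv γ]
      exact ⟨(x : X ⧸ R), hx, rfl⟩
    have hNs : Group.IsSolvable N := by
      haveI : Group.IsNilpotent FQ := Cores.fittingSubgroup_isNilpotent
      let f : N →* FQ := ((QuotientGroup.mk' R).comp N.subtype).codRestrict FQ fun x => x.2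
      refine solvable_of_ker_le_range (Subgroup.inclusion hRN) f fun x hx => ?_
      have h1 : ((x : X) : X ⧸ R) = 1 := congrArg Subtype.val hx
      exact ⟨⟨x, (QuotientGroup.eq_one_iff _).mp h1⟩, Subtype.ext rfl⟩
    have hNR := hmax ⟨inferInstance, hNi, hNs⟩ hRN
    refine (eq_bot_iff_forall _).mpr fun y hy => ?_
    induction y using QuotientGroup.induction_on with
    | H x => exact (QuotientGroup.eq_one_iff x).mpr (hNR hy)
  have hk' : Nat.card (fix γ) ≤ k * Nat.card R := by
    refine le_trans ?_ ((card_le_fix_mul β {g | g * (β g)⁻¹ ∈ R} R fun g hg => hg).trans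
      (Nat.mul_le_mul_right _ hX.hk))
    refine Nat.card_le_card_of_injective (fun y => (⟨Quotient.out (y : X ⧸ R), ?_⟩
      : {g : X | g * (β g)⁻¹ ∈ R})) fun y z h => ?_
    · set g := Quotient.out (y : X ⧸ R)
      have h1 : ((β g : X) : X ⧸ R) = (g : X ⧸ R) := by
        rw [← quot_mk β hX.two R hRi g, QuotientGroup.out_eq']
        exact y.2
      show g * (β g)⁻¹ ∈ R
      rw [← QuotientGroup.eq_one_iff, QuotientGroup.mk_mul, QuotientGroup.mk_inv, h1, mul_inv_cancel]
    · exact Subtype.ext (Quotient.out_injective (congrArg Subtype.val h :))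
  have hQ := card_le_bnd _ (X ⧸ R) γ (quot_two β hX.two R hRi) hFQ hk'
  rw [← R.card_mul_index]
  exact Nat.mul_le_mul hRb (hQ.trans (bnd_mono (Nat.mul_le_mul_left k hRb)))

end Cfsg.Agent.H26.InvertedBound
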