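import Cfsg.Agent.H26.InvertedBound.Basic
import Cfsg.Agent.Cores.Fitting

/-!
The order of a group with trivial Fitting subgroup is bounded by the number of fixed points of an
involutory automorphism (Brauer--Fowler).
-/

set_option autoImplicit false

namespace Cfsg.Agent.H26.InvertedBound

open Subgroup
open scoped Pointwise

universe u

variable {G : Type u} [Group G] [Finite G]

/-- Brauer--Fowler: some nontrivial element has a centraliser of small index. -/
theorem exists_small_index (α : MulAut G) (h2 : ∀ g, α (α g) = g) {k : ℕ}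
    (hk : Nat.card (fix α) ≤ k) (hG : k < Nat.card G) :
    ∃ x : G, x ≠ 1 ∧ (centralizer ({x} : Set G)).index ≤ 2 * k ^ 2 := by
  classical
  have : Fintype G := Fintype.ofFinite G
  by_contra hc
  push_neg at hc
  set K : Set G := {g | α g = g⁻¹} with hK
  have hbound : Nat.card G ≤ k * K.toFinset.card := by
    have h := card_le_fix_mul α Set.univ K fun g _ => inverted_mul_inv α h2 g
    rw [Nat.card_univ, Nat.card_eq_card_toFinset K] at h
    exact h.trans (Nat.mul_le_mul_right _ hk)
  set P := K.toFinset.offDiag with hP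
  have hPn : P.card * (2 * k ^ 2 + 1) ≤ Nat.card G * Nat.card G := by
    rw [Finset.card_eq_sum_card_fiberwise (f := fun p : G × G => p.1 * p.2⁻¹)
      (t := Finset.univ) (fun _ _ => Finset.mem_univ _), Finset.sum_mul]
    refine (Finset.sum_le_card_nsmul _ _ (Nat.card G) fun x _ => ?_).trans
      (by rw [smul_eq_mul, Finset.card_univ, Nat.card_eq_fintype_card])
    rcases (P.filter fun p : G × G => p.1 * p.2⁻¹ = x).eq_empty_or_nonempty with he | ⟨p₀, hp₀⟩
    · simp [he]
    have hmem : ∀ p ∈ P.filter (fun p : G × G => p.1 * p.2⁻¹ = x),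
        p.1 * α x * p.1⁻¹ = x⁻¹ := by
      intro p hp
      rw [Finset.mem_filter, hP, Finset.mem_offDiag, Set.mem_toFinset, Set.mem_toFinset] at hp
      obtain ⟨⟨h1, h1', -⟩, rfl⟩ := hp
      rw [map_mul, map_inv, show α p.1 = p.1⁻¹ from h1, show α p.2 = p.2⁻¹ from h1']
      group
    have hx : x ≠ 1 := by
      rw [Finset.mem_filter, hP, Finset.mem_offDiag] at hp₀
      exact fun h => hp₀.1.2.2 (mul_inv_eq_one.mp (hp₀.2.trans h))
    calc (P.filter fun p : G × G => p.1 * p.2⁻¹ = x).card * (2 * k ^ 2 + 1)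
        ≤ Nat.card (centralizer ({x} : Set G)) * (centralizer ({x} : Set G)).index := by
          refine Nat.mul_le_mul ?_ (hc x hx)
          rw [Nat.card_eq_fintype_card]
          refine Finset.card_le_card_of_injOn (fun p =>
            if h : α (p₀.1⁻¹ * p.1) ∈ centralizer ({x} : Set G) then
              (⟨_, h⟩ : centralizer ({x} : Set G)) else 1) (fun p _ => Finset.mem_univ _) ?_
          have hc' : ∀ p ∈ P.filter (fun p : G × G => p.1 * p.2⁻¹ = x),
              α (p₀.1⁻¹ * p.1) ∈ centralizer ({x} : Set G) := by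
            intro p hp
            have h1 := hmem p hp
            have h0 := hmem p₀ hp₀
            have key : p₀.1⁻¹ * p.1 * α x * (p₀.1⁻¹ * p.1)⁻¹ = α x := by
              calc p₀.1⁻¹ * p.1 * α x * (p₀.1⁻¹ * p.1)⁻¹ = p₀.1⁻¹ * (p.1 * α x * p.1⁻¹) * p₀.1 := by
                    group
                _ = p₀.1⁻¹ * (p₀.1 * α x * p₀.1⁻¹) * p₀.1 := by rw [h1, h0]
                _ = α x := by group
            have key2 := congrArg α key
            rw [map_mul, map_mul, map_inv, h2] at key2
            exact mem_centralizer_singleton_iff.mpr (mul_inv_eq_iff_eq_mul.mp key2)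
          intro p hp q hq hpq
          simp only [dif_pos (hc' p hp), dif_pos (hc' q hq), Subtype.mk.injEq,
            EmbeddingLike.apply_eq_iff_eq, mul_right_inj] at hpq
          simp only [Finset.coe_filter, Set.mem_setOf_eq] at hp hq
          refine Prod.ext hpq (inv_injective (mul_left_cancel (a := p.1) ?_))
          rw [hp.2, hpq, hq.2]
      _ = Nat.card G := card_mul_index _
  rw [hP, Finset.offDiag_card] at hPn
  have h1 : 2 ≤ K.toFinset.card := by
    by_contra h
    have : K.toFinset.card ≤ 1 := by omega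
    exact absurd (hbound.trans (Nat.mul_le_mul_left k this)) (by omega)
  obtain ⟨j, hj⟩ : ∃ j, K.toFinset.card = j + 2 := ⟨_, (Nat.sub_add_cancel h1).symm⟩
  rw [hj] at hPn hbound
  have h3 : (j + 2) * (j + 2) - (j + 2) = (j + 1) * (j + 2) := by
    rw [show (j + 2) * (j + 2) = (j + 1) * (j + 2) + (j + 2) by ring, Nat.add_sub_cancel]
  rw [h3] at hPn
  nlinarith [Nat.mul_le_mul hbound hbound]

/-- The bound for groups with trivial Fitting subgroup. -/
def bnd : ℕ → ℕ
  | 0 => 0
  | k + 1 => ((2 * (k + 1) ^ 2).factorial + (k + 1) ^ 2 + bnd k * (bnd k).factorial).factorial +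
      bnd k * (bnd k).factorial

/-- Trivial Fitting subgroup passes to normal subgroups. -/
theorem fitting_bot_normal (hF : Cfsg.fittingSubgroup G = ⊥) (N : Subgroup G) [N.Normal] :
    Cfsg.fittingSubgroup N = ⊥ := by
  have h := Cores.map_fittingSubgroup_le_of_normal N
  rw [hF, le_bot_iff, Subgroup.map_eq_bot_iff_of_injective _ N.subtype_injective] at h
  exact h

/-- Abelian normal subgroups are trivial. -/
theorem eq_bot_of_comm (hF : Cfsg.fittingSubgroup G = ⊥) (N : Subgroup G) [N.Normal]
    (h : ∀ a b : N, a * b = b * a) : N = ⊥ := by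
  refine le_bot_iff.mp (hF ▸ Cores.le_fittingSubgroup ?_)
  letI : CommGroup N := { (inferInstance : Group N) with mul_comm := h }
  infer_instance

theorem two_le_fix (hF : Cfsg.fittingSubgroup G = ⊥) (α : MulAut G) (h2 : ∀ g, α (α g) = g)
    (U : Subgroup G) [U.Normal] (hU : ∀ x ∈ U, α x ∈ U) (hne : U ≠ ⊥) :
    2 ≤ Nat.card (fix (restrict α h2 U hU)) := by
  by_contra h
  have h1 : Nat.card (fix (restrict α h2 U hU)) = 1 := by
    have := Nat.card_pos (α := fix (restrict α h2 U hU)); omega
  rw [Subgroup.card_eq_one] at h1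
  refine hne (eq_bot_of_comm hF U fun a b => ?_)
  have hfpf : MonoidHom.FixedPointFree (restrict α h2 U hU) := fun x hx => by
    have : x ∈ fix (restrict α h2 U hU) := hx
    rwa [h1, mem_bot] at this
  exact hfpf.commute_all_of_involutive (restrict_two α h2 U hU) a b

/-- The inductive step: an invariant normal subgroup with a nontrivial centraliser. -/
theorem step {k : ℕ} (IH : ∀ (H : Type u) [Group H] [Finite H] (β : MulAut H), (∀ h, β (β h) = h) →
      Cfsg.fittingSubgroup H = ⊥ → Nat.card (fix β) ≤ k → Nat.card H ≤ bnd k)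
    (α : MulAut G) (h2 : ∀ g, α (α g) = g) (hF : Cfsg.fittingSubgroup G = ⊥)
    (hk : Nat.card (fix α) ≤ k + 1) (U : Subgroup G) [U.Normal] (hU : ∀ x ∈ U, α x ∈ U)
    (hne : U ≠ ⊥) (hC : centralizer (U : Set G) ≠ ⊥) :
    Nat.card G ≤ bnd k * (bnd k).factorial := by
  have hUC : ∀ x ∈ centralizer (U : Set G), α x ∈ centralizer (U : Set G) := by
    intro x hx
    refine mem_centralizer_iff.mpr fun u hu => ?_
    have := congrArg α (mem_centralizer_iff.mp hx (α u) (hU u hu))
    rwa [map_mul, map_mul, h2] at this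
  set C := centralizer (U : Set G) with hCdef
  have hinf : U ⊓ C = ⊥ := by
    refine eq_bot_of_comm hF _ fun a b => Subtype.ext ?_
    exact mem_centralizer_iff.mp b.2.2 a a.2.1
  set fU := fix (restrict α h2 U hU)
  set fC := fix (restrict α h2 C hUC)
  have hprod : Nat.card fU * Nat.card fC ≤ Nat.card (fix α) := by
    rw [← Nat.card_prod]
    refine Nat.card_le_card_of_injective (fun p => (⟨((p.1 : U) : G) * ((p.2 : C) : G), by
      rw [mem_fix, map_mul]
      exact congrArg₂ (· * ·) (congrArg Subtype.val p.1.2) (congrArg Subtype.val p.2.2)⟩ : fix α)) ?_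
    intro p q h
    have h' : ((p.1 : U) : G) * ((p.2 : C) : G) = (q.1 : U) * ((q.2 : C) : G) := congrArg Subtype.val h
    have hd : ((q.1 : U) : G)⁻¹ * (p.1 : U) = ((q.2 : C) : G) * ((p.2 : C) : G)⁻¹ := by
      rw [inv_mul_eq_iff_eq_mul, ← mul_assoc, ← h', mul_inv_cancel_right]
    have h0 : ((q.1 : U) : G)⁻¹ * (p.1 : U) ∈ U ⊓ C :=
      ⟨U.mul_mem (U.inv_mem (q.1 : U).2) (p.1 : U).2,
        hd ▸ C.mul_mem (q.2 : C).2 (C.inv_mem (p.2 : C).2)⟩
    rw [hinf, mem_bot, inv_mul_eq_one] at h0
    refine Prod.ext (Subtype.ext (Subtype.ext h0.symm)) (Subtype.ext (Subtype.ext ?_))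
    rw [h0] at h'
    exact mul_left_cancel h'
  have h2U := two_le_fix hF α h2 U hU hne
  have h2C := two_le_fix hF α h2 C hUC hC
  have hUk : Nat.card fU ≤ k := by nlinarith
  have hCk : Nat.card fC ≤ k := by nlinarith
  have b1 := IH U _ (restrict_two α h2 U hU) (fitting_bot_normal hF U) hUk
  have b2 := IH C _ (restrict_two α h2 C hUC) (fitting_bot_normal hF C) hCk
  exact (card_le_centralizer_mul_factorial U).trans (Nat.mul_le_mul b2 (Nat.factorial_le b1))

/-- A group with trivial Fitting subgroup is bounded by the fixed points of an involution. -/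
theorem card_le_bnd : ∀ (k : ℕ) (H : Type u) [Group H] [Finite H] (β : MulAut H),
    (∀ h, β (β h) = h) → Cfsg.fittingSubgroup H = ⊥ → Nat.card (fix β) ≤ k →
      Nat.card H ≤ bnd k := by
  intro k
  induction k with
  | zero => intro H _ _ β _ _ hk; exact absurd hk (Nat.not_le.2 Nat.card_pos)
  | succ k IH =>
  intro H _ _ β h2 hF hk
  classical
  show Nat.card H ≤ (_ : ℕ).factorial + bnd k * (bnd k).factorial
  rcases subsingleton_or_nontrivial H with hs | hnt
  · rw [Nat.card_unique]
    exact le_add_right (Nat.factorial_pos _)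
  obtain ⟨N, ⟨hNn, hNi, hN1⟩, hmin⟩ := (Set.toFinite {N : Subgroup H | N.Normal ∧
    (∀ x ∈ N, β x ∈ N) ∧ N ≠ ⊥}).exists_minimal
      ⟨⊤, inferInstance, fun x _ => mem_top _, top_ne_bot⟩
  haveI := hNn
  by_cases hC : centralizer (N : Set H) = ⊥
  swap
  · exact le_add_left (step IH β h2 hF hk N hNi hN1 hC)
  have hcardC : Nat.card (centralizer (N : Set H)) = 1 := by rw [hC, Subgroup.card_bot]
  refine le_add_right ((card_le_centralizer_mul_factorial N).trans ?_)
  rw [hcardC, one_mul]
  refine Nat.factorial_le ?_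
  set γ := restrict β h2 N hNi
  have hγ : Nat.card (fix γ) ≤ k + 1 := (card_restrict_fix_le β h2 N hNi).trans hk
  have hFN := fitting_bot_normal hF N
  haveI : Nontrivial N := nontrivial_iff_ne_bot N |>.mpr hN1
  obtain ⟨A, ⟨hAn, hA1⟩, hAmin⟩ := (Set.toFinite {A : Subgroup N | A.Normal ∧ A ≠ ⊥}).exists_minimal
    ⟨⊤, inferInstance, top_ne_bot⟩
  haveI := hAn
  haveI hA'n : (A.map γ.toMonoidHom).Normal := hAn.map _ γ.surjective
  set A' := A.map γ.toMonoidHom with hA'
  have hA'' : ∀ x ∈ A', γ x ∈ A := by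
    rintro _ ⟨a, ha, rfl⟩
    simpa using (restrict_two β h2 N hNi a).symm ▸ ha
  set U := A ⊔ A' with hU
  have hUi : ∀ x ∈ U, γ x ∈ U := by
    intro x hx
    have hle : U.map γ.toMonoidHom ≤ U := by
      rw [hU, Subgroup.map_sup]
      refine sup_le (le_sup_right) (le_trans ?_ le_sup_left)
      rintro _ ⟨y, hy, rfl⟩
      exact hA'' y hy
    exact hle ⟨x, hx, rfl⟩
  have hU1 : U ≠ ⊥ := fun h => hA1 (le_bot_iff.mp (h ▸ le_sup_left))
  by_cases hUtop : U = ⊤
  · by_cases hAA : A' = A
    · have hAtop : A = ⊤ := by rw [← hUtop, hU, hAA, sup_idem]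
      rcases Nat.lt_or_ge (k + 1) (Nat.card N) with hlt | hge
      · obtain ⟨x, hx1, hxi⟩ := exists_small_index γ (restrict_two β h2 N hNi) hγ hlt
        refine le_add_right (le_add_right ?_)
        set C := centralizer ({x} : Set N) with hCx
        have hcore : C.normalCore = ⊥ := by
          by_contra hne
          have h1 : A ≤ C.normalCore :=
            hAmin ⟨C.normalCore_normal, hne⟩ (hAtop ▸ le_top)
          rw [hAtop, top_le_iff] at h1
          have hxZ : x ∈ center N := by
            refine mem_center_iff.mpr fun g => ?_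
            have hg : g ∈ C := C.normalCore_le (h1 ▸ mem_top g)
            exact mem_centralizer_singleton_iff.mp hg
          have hZ := eq_bot_of_comm hFN (center N) fun a b => Subtype.ext (mem_center_iff.mp b.2 a)
          rw [hZ, mem_bot] at hxZ
          exact hx1 hxZ
        haveI : Fintype (N ⧸ C) := Fintype.ofFinite _
        have hinj : Function.Injective (MulAction.toPermHom N (N ⧸ C)) := by
          rw [← MonoidHom.ker_eq_bot_iff, ← normalCore_eq_ker]; exact hcore
        refine (Nat.card_le_card_of_injective _ hinj).trans ?_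
        rw [Nat.card_eq_fintype_card, Fintype.card_perm, ← Nat.card_eq_fintype_card]
        exact Nat.factorial_le hxi
      · refine le_add_right (le_add_left (hge.trans ?_))
        exact Nat.le_self_pow two_ne_zero _
    · have hdisj : A ⊓ A' = ⊥ := by
        by_contra hne
        have h1 : A ≤ A ⊓ A' := hAmin ⟨inferInstance, hne⟩ inf_le_left
        refine hAA (le_antisymm ?_ (h1.trans inf_le_right))
        rintro _ ⟨a, ha, rfl⟩
        exact hA'' a ((h1.trans inf_le_right) ha)
      have hcomm : ∀ a ∈ A, ∀ b ∈ A', Commute a b := fun a ha b hb =>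
        Subgroup.commute_of_normal_of_disjoint A A' hAn hA'n (disjoint_iff.mpr hdisj) a b ha hb
      have hdiag : Nat.card A ≤ Nat.card (fix γ) := by
        refine Nat.card_le_card_of_injective (fun a => (⟨(a : N) * γ a, by
          rw [mem_fix, map_mul, restrict_two β h2 N hNi]
          exact (hcomm a a.2 (γ a) ⟨a, a.2, rfl⟩).symm.eq⟩ : fix γ)) ?_
        intro a b h
        have h' : (a : N) * γ a = b * γ b := congrArg Subtype.val h
        have hd : ((b : N))⁻¹ * a = γ b * (γ a)⁻¹ := by
          rw [inv_mul_eq_iff_eq_mul, ← mul_assoc, ← h', mul_inv_cancel_right]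
        have h0 : ((b : N))⁻¹ * a ∈ A ⊓ A' :=
          ⟨A.mul_mem (A.inv_mem b.2) a.2,
            hd ▸ A'.mul_mem ⟨b, b.2, rfl⟩ (A'.inv_mem ⟨a, a.2, rfl⟩)⟩
        rw [hdisj, mem_bot, inv_mul_eq_one] at h0
        exact Subtype.ext h0.symm
      refine le_add_right (le_add_left ?_)
      have hN : Nat.card N ≤ Nat.card A * Nat.card A' := by
        rw [← Subgroup.card_top, ← hUtop, hU, ← Nat.card_prod, ← SetLike.coe_sort_coe,
          Subgroup.normal_mul]
        refine Nat.card_le_card_of_surjective (fun p : A × A' => (⟨(p.1 : N) * p.2,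
          Set.mul_mem_mul p.1.2 p.2.2⟩ : ((A : Set N) * (A' : Set N) : Set N))) ?_
        rintro ⟨_, a, ha, b, hb, rfl⟩
        exact ⟨(⟨a, ha⟩, ⟨b, hb⟩), rfl⟩
      rw [Subgroup.card_map_of_injective γ.injective] at hN
      exact hN.trans (by rw [sq]; exact Nat.mul_le_mul (hdiag.trans hγ) (hdiag.trans hγ))
  · refine le_add_left (step IH γ (restrict_two β h2 N hNi) hFN hγ U hUi hU1 ?_)
    obtain ⟨y, hy⟩ : ∃ y : H, ¬ A.map (MulAut.conjNormal y : MulAut N).toMonoidHom ≤ U := by
      by_contra hall
      push_neg at hall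
      let W : Subgroup H := normalClosure ((A.map N.subtype : Subgroup H) ∪
        (A'.map N.subtype : Subgroup H) : Set H)
      have hWi : ∀ x ∈ W, β x ∈ W := by
        intro x hx
        have hle : W ≤ W.comap β.toMonoidHom := by
          haveI : (W.comap β.toMonoidHom).Normal := Subgroup.normal_comap _
          refine normalClosure_le_normal ?_
          rintro _ (⟨a, ha, rfl⟩ | ⟨a, ha, rfl⟩)
          · exact subset_normalClosure (Or.inr ⟨γ a, ⟨a, ha, rfl⟩, rfl⟩)
          · exact subset_normalClosure (Or.inl ⟨γ a, hA'' a ha, rfl⟩)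
        exact hle hx
      have hsub : ∀ a ∈ A, (a : H) ∈ W := fun a ha =>
        subset_normalClosure (Or.inl ⟨a, ha, rfl⟩)
      have hW1 : W ≠ ⊥ := by
        intro h
        refine hA1 ((eq_bot_iff_forall A).mpr fun a ha => Subtype.ext ?_)
        have := hsub a ha
        rwa [h, mem_bot] at this
      have hWN : W ≤ N := normalClosure_le_normal (by
        rintro _ (⟨a, _, rfl⟩ | ⟨a, _, rfl⟩) <;> exact a.2)
      have hNW : N ≤ W := hmin ⟨normalClosure_normal, hWi, hW1⟩ hWN
      refine hUtop (eq_top_iff.mpr fun n _ => ?_)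
      have hW' : W ≤ U.map N.subtype := by
        refine (closure_le _).mpr fun x hx => ?_
        obtain ⟨a, ha, hconj⟩ := Group.mem_conjugatesOfSet_iff.mp hx
        obtain ⟨c, rfl⟩ := isConj_iff.mp hconj
        rcases ha with ⟨a, ha, rfl⟩ | ⟨a, ha, rfl⟩
        · exact ⟨MulAut.conjNormal c a, hall c ⟨a, ha, rfl⟩, by simp⟩
        · obtain ⟨a, ha', rfl⟩ := ha
          refine ⟨γ (MulAut.conjNormal (β c) a), hUi _ (hall (β c) ⟨a, ha', rfl⟩), ?_⟩
          show β ((MulAut.conjNormal (β c) a : N) : H) = c * β (a : H) * c⁻¹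
          rw [MulAut.conjNormal_apply, map_mul, map_mul, map_inv, h2]
      obtain ⟨u, hu, hun⟩ := hW' (hNW n.2)
      exact N.subtype_injective hun ▸ hu
    set φ := (MulAut.conjNormal y : MulAut N)
    haveI hBn : (A.map φ.toMonoidHom).Normal := hAn.map _ φ.surjective
    have hdisj : Disjoint (A.map φ.toMonoidHom) U := by
      rw [disjoint_iff]
      by_contra hne
      refine hy ?_
      set D := (A.map φ.toMonoidHom ⊓ U).comap φ.toMonoidHom with hD
      have hD1 : D ≠ ⊥ := by
        intro h
        apply hne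
        have := map_comap_eq_self_of_surjective (f := φ.toMonoidHom) φ.surjective
          (A.map φ.toMonoidHom ⊓ U)
        rw [← hD, h, Subgroup.map_bot] at this
        exact this.symm
      haveI : D.Normal := Subgroup.normal_comap _
      have hDA : D ≤ A := fun d hd => by
        obtain ⟨a, ha, hae⟩ := hd.1
        rwa [← φ.injective hae]
      have hAD := hAmin ⟨inferInstance, hD1⟩ hDA
      rintro _ ⟨a, ha, rfl⟩
      exact (hAD ha).2
    intro hbot
    refine hA1 ((eq_bot_iff_forall A).mpr fun a ha => φ.injective ?_)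
    rw [map_one, ← mem_bot, ← hbot]
    refine mem_centralizer_iff.mpr fun u hu => ?_
    exact (Subgroup.commute_of_normal_of_disjoint _ _ hBn inferInstance hdisj _ u ⟨a, ha, rfl⟩ hu).symm.eq

end Cfsg.Agent.H26.InvertedBound
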